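import Groth.Agent.KerSecLib.Sections
import Groth.Agent.AmpleEmb.Immersion
import Groth.Agent.ProjUPLib.Free
import Groth.Agent.ProjUPLib.SpecKer

/-!
# Morphisms to projective space of an open subscheme given by sections with generating ratios
-/

set_option autoImplicit false
set_option backward.isDefEq.respectTransparency false
set_option linter.style.haveILetI false

universe u

open CategoryTheory CategoryTheory.Limits AlgebraicGeometry TopologicalSpace Opposite
open Groth.Agent.PullbackMod Groth.Agent.DCohLib Groth.Agent.ParaFLib Groth.Agent.AmpleLib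
open Groth.Agent.ProjUPLib

noncomputable section

namespace Groth.Agent.KerSecLib

variable {X : Scheme.{u}} (U : X.Opens) {M : X.Modules}

/-- A global section as a section of the restriction to `U`. -/
def resU (v : ProjUP.Γm M) : ProjUP.Γm (M.restrict U.ι) :=
  (M.restrictAppIso U.ι ⊤).inv (M.presheaf.map (homOfLE le_top).op v)

theorem resU_add (v w : ProjUP.Γm M) : resU U (v + w) = resU U v + resU U w := by
  simp only [resU, map_add]

theorem resU_sum {ι : Type*} (s : Finset ι) (v : ι → ProjUP.Γm M) :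
    resU U (∑ j ∈ s, v j) = ∑ j ∈ s, resU U (v j) :=
  map_sum (AddMonoidHom.mk' (resU U (M := M)) (resU_add U)) v s

theorem resT_resU (v : ProjUP.Γm M) (O : U.toScheme.Opens) :
    resT (resU U v) O = (show Γ(M.restrict U.ι, O) from resT v (U.ι ''ᵁ O)) :=
  res_res (le_top : U.ι ''ᵁ ⊤ ≤ ⊤) (U.ι.image_mono le_top) v

theorem gl_resU (hM : PicF.IsInvertible M) (v : ProjUP.Γm M) : gl (resU U v) = U.ι ⁻¹ᵁ gl v := by
  refine le_antisymm (fun x hx => ?_) (le_gl ?_)
  · obtain ⟨O, hxO, hO⟩ := mem_genLocus_iff'.1 hx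
    rw [sec_secHom, resT_resU] at hO
    exact le_gl ((AmpleLib.gen_restrict_iff U.ι M O (resT v (U.ι ''ᵁ O))).1 hO) ⟨x, hxO, rfl⟩
  · rw [resT_resU]
    refine (AmpleLib.gen_restrict_iff U.ι M _ (resT v (U.ι ''ᵁ (U.ι ⁻¹ᵁ gl v)))).2 ?_
    have h : U.ι ''ᵁ (U.ι ⁻¹ᵁ gl v) ≤ gl v := by
      rw [Scheme.Hom.image_preimage_eq_opensRange_inf]; exact inf_le_right
    have h1 := (gen_gl hM v).res h
    rwa [resT, res_res] at h1

theorem smul_restrict (O : U.toScheme.Opens) (r : Γ(U.toScheme, O)) (m : Γ(M, U.ι ''ᵁ O)) :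
    r • (show Γ(M.restrict U.ι, O) from m) = (show Γ(M.restrict U.ι, O) from (show Γ(X, U.ι ''ᵁ O) from r) • m) := by
  have : (U.ι.appIso O).inv r = (show Γ(X, U.ι ''ᵁ O) from r) := by simp; rfl
  show (U.ι.appIso O).inv r • m = _
  rw [this]

variable {k : Type u} [CommRing k] (f : X ⟶ Spec (CommRingCat.of k))

theorem resU_toGlobal_smul (c : k) (v : ProjUP.Γm M) :
    resU U (ProjUP.toGlobal f c • v) = ProjUP.toGlobal (U.ι ≫ f) c • resU U v := by
  have e : ProjUP.toGlobal (U.ι ≫ f) c =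
      (show Γ(U.toScheme, ⊤) from X.presheaf.map (homOfLE (le_top : U.ι ''ᵁ ⊤ ≤ ⊤)).op (ProjUP.toGlobal f c)) := by
    show (U.ι ≫ f).appTop _ = X.presheaf.map _ (f.appTop _)
    rw [Scheme.Hom.comp_appTop, CommRingCat.comp_apply, Scheme.Opens.ι_appTop]
    rfl
  rw [e]
  refine Eq.trans ?_ (smul_restrict U ⊤ _ _).symm
  exact M.map_smul (homOfLE (le_top : U.ι ''ᵁ ⊤ ≤ ⊤)) _ v

theorem resU_combine {r : ℕ} (s : Fin (r + 1) → ProjUP.Γm M) (c : Fin (r + 1) → k) :
    resU U (∑ j, ProjUP.toGlobal f (c j) • s j) = combine (U.ι ≫ f) (fun j => resU U (s j)) c := by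
  rw [resU_sum]
  exact Finset.sum_congr rfl fun j _ => resU_toGlobal_smul U f (c j) (s j)

theorem generatedBy_of_combine {X' : Scheme.{u}} {L : X'.Modules} (q : X' ⟶ Spec (CommRingCat.of k)) {r : ℕ}
    (s : Fin (r + 1) → ProjUP.Γm L) (h : ProjUP.GeneratedBy L (combine q s)) : ProjUP.GeneratedBy L s := fun x => by
  rw [eq_top_iff, ← h x, Submodule.span_le]
  rintro _ ⟨c, rfl⟩
  show L.presheaf.germ ⊤ x trivial (∑ j, ProjUP.toGlobal q (c j) • s j) ∈ _
  rw [map_sum]
  refine Submodule.sum_mem _ fun j _ => ?_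
  rw [germ_smul']
  exact Submodule.smul_mem _ _ (Submodule.subset_span ⟨j, rfl⟩)

theorem resU_cancel {O : U.toScheme.Opens} {v w : ProjUP.Γm M} {A : X.Opens} (hA : U.ι ''ᵁ O = A)
    {a : Γ(X, A)} (ha : a • resT v A = resT w A) :
    U.ι.appLE A O (fun z hz => hA.le ⟨z, hz, rfl⟩) a • resT (resU U v) O = resT (resU U w) O := by
  subst hA
  rw [resT_resU, resT_resU]
  refine (smul_restrict U O _ _).trans ?_
  refine Eq.trans ?_ ha
  refine congrArg (fun b : Γ(X, U.ι ''ᵁ O) => b • resT v (U.ι ''ᵁ O)) ?_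
  show U.ι.appLE (U.ι ''ᵁ O) O _ a = a
  rw [Scheme.Opens.ι_appLE]
  exact ConcreteCategory.congr_hom (X.presheaf.map_id _) a

theorem appLE_surjective_image {O : U.toScheme.Opens} {A : X.Opens} (hA : U.ι ''ᵁ O = A) :
    Function.Surjective (U.ι.appLE A O (fun z hz => hA.le ⟨z, hz, rfl⟩)) := by
  subst hA
  rw [Scheme.Opens.ι_appLE]
  exact fun y => ⟨y, ConcreteCategory.congr_hom (X.presheaf.map_id _) y⟩

/-- A morphism by sections is an immersion when on affine loci covering `U` the ratios generate. -/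
theorem isImmersion_of_ratios (hM : PicF.IsInvertible M) {r : ℕ} (s : Fin (r + 1) → ProjUP.Γm M)
    (hd : ∀ x ∈ U, ∃ c : Fin (r + 1) → k, x ∈ gl (∑ j, ProjUP.toGlobal f (c j) • s j) ∧
      gl (∑ j, ProjUP.toGlobal f (c j) • s j) ≤ U ∧ IsAffineOpen (gl (∑ j, ProjUP.toGlobal f (c j) • s j)) ∧
      ∃ T : Set Γ(X, gl (∑ j, ProjUP.toGlobal f (c j) • s j)),
        Subring.closure (Set.range (f.appLE ⊤ (gl (∑ j, ProjUP.toGlobal f (c j) • s j)) le_top).hom ∪ T) = ⊤ ∧
        ∀ a ∈ T, ∃ c' : Fin (r + 1) → k, a • resT (∑ j, ProjUP.toGlobal f (c j) • s j) _ =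
          resT (∑ j, ProjUP.toGlobal f (c' j) • s j) (gl (∑ j, ProjUP.toGlobal f (c j) • s j)))
    (φ : (U : Scheme.{u}) ⟶ CohB1.ProjSpace r k) (hφ : φ ≫ CohB1.ProjSpace.toSpec r k = U.ι ≫ f)
    (τ : (Scheme.Modules.pullback φ).obj (Twist.twistProjSpace r k 1) ≅ M.restrict U.ι)
    (hτ : ∀ j, τ.hom.app ⊤ (ProjUP.pullSec φ (Twist.twistProjSpace r k 1) (ProjUP.coord r k j)) = resU U (s j)) :
    IsImmersion φ := by
  classical
  let q : (U : Scheme.{u}) ⟶ Spec (CommRingCat.of k) := U.ι ≫ f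
  have hMU : PicF.IsInvertible (M.restrict U.ι) := ParaFLib.isInvertible_restrict U.ι hM
  choose c hxc hcU hca T hT ha using hd
  let v : ∀ x : U.toScheme, ProjUP.Γm M := fun x => ∑ j, ProjUP.toGlobal f (c x.1 x.2 j) • s j
  have hgen : ProjUP.GeneratedBy (M.restrict U.ι) (fun j => resU U (s j)) := by
    refine generatedBy_of_combine q _ (generatedBy_of_mem_gl hMU fun x => ⟨c x.1 x.2, ?_⟩)
    rw [← resU_combine, gl_resU U hM]
    exact hxc x.1 x.2
  obtain ⟨p, hp, τ', hτ'⟩ := exists_hom (linForm_mem r k) (isSymmetricAlgebra_linForm r k) q hMU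
    (combine q (fun j => resU U (s j))) (combine_smul q _)
    (generatedBy_combine q hgen)
  have hpφ : p = φ := by
    refine hom_ext_projSpace p φ (hp.trans hφ.symm) (τ' ≪≫ τ.symm) fun j => ?_
    have h := hτ' (Pi.single j 1)
    rw [pForm, formSec_linForm_single, combine_single, ← hτ j] at h
    show τ.inv.app ⊤ (τ'.hom.app ⊤ _) = _
    refine (congrArg (τ.inv.app ⊤) h).trans ?_
    exact ConcreteCategory.congr_hom (congrArg (fun a => Scheme.Modules.Hom.app a ⊤) τ.hom_inv_id) _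
  subst hpφ
  clear hτ τ
  let G : ↥U.toScheme → CohB1.polyGrading r k 1 := fun x => ⟨linForm r k (c x.1 x.2), linForm_mem r k _⟩
  let V : ↥U.toScheme → (CohB1.ProjSpace r k).Opens := fun x => Proj.basicOpen _ (G x).1
  have hadj := adjoin_range (isSymmetricAlgebra_linForm r k)
  have hpre : ∀ x, p ⁻¹ᵁ V x = U.ι ⁻¹ᵁ gl (v x) := fun x => by
    rw [← gl_pForm (linForm_mem r k) p hadj (G x), ← gl_iso τ', hτ', ← resU_combine, gl_resU U hM]
  have himg : ∀ x, U.ι ''ᵁ (p ⁻¹ᵁ V x) = gl (v x) := fun x => by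
    rw [hpre, Scheme.Hom.image_preimage_eq_opensRange_inf, Scheme.Opens.opensRange_ι]
    exact inf_eq_right.2 (hcU x.1 x.2)
  have hsurj : ∀ x, Function.Surjective (p.appLE (V x) (p ⁻¹ᵁ V x) le_rfl) := fun x => by
    have hO := himg x
    let ψ := U.ι.appLE (gl (v x)) (p ⁻¹ᵁ V x) (fun z hz => hO.le ⟨z, hz, rfl⟩)
    intro y
    obtain ⟨b, rfl⟩ := appLE_surjective_image U hO y
    have hb : b ∈ Subring.closure (Set.range (f.appLE ⊤ (gl (v x)) le_top).hom ∪ T x.1 x.2) := (hT x.1 x.2) ▸ trivial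
    suffices h : ψ.hom b ∈ (p.appLE (V x) (p ⁻¹ᵁ V x) le_rfl).hom.range from h
    induction hb using Subring.closure_induction with
    | zero => rw [map_zero]; exact zero_mem _
    | one => rw [map_one]; exact one_mem _
    | add a b _ _ ha hb => rw [map_add]; exact add_mem ha hb
    | neg a _ ha => rw [map_neg]; exact neg_mem ha
    | mul a b _ _ ha hb => rw [map_mul]; exact mul_mem ha hb
    | mem a ha' =>
      rcases ha' with ⟨b, rfl⟩ | ha'
      · refine ⟨(CohB1.ProjSpace.toSpec r k).appLE ⊤ (V x) le_top b, ?_⟩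
        show ((CohB1.ProjSpace.toSpec r k).appLE ⊤ (V x) le_top ≫ p.appLE (V x) (p ⁻¹ᵁ V x) le_rfl) b =
          (f.appLE ⊤ (gl (v x)) le_top ≫ ψ) b
        rw [Scheme.Hom.appLE_comp_appLE, Scheme.Hom.appLE_comp_appLE]
        simp only [hφ]
      · obtain ⟨c', hc'⟩ := ha x.1 x.2 a ha'
        refine ⟨ProjCoh.ratioSec _ (G x) ⟨linForm r k c', linForm_mem r k c'⟩, ?_⟩
        have h1 := congrArg (τ'.hom.app (p ⁻¹ᵁ V x))
          (appLE_ratio_smul p (G x) (⟨linForm r k c', linForm_mem r k c'⟩ : CohB1.polyGrading r k 1)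
            (le_refl (p ⁻¹ᵁ V x)))
        rw [app_resT] at h1
        have hg : Gen (p ⁻¹ᵁ V x) (resT (resU U (v x)) (p ⁻¹ᵁ V x)) := by
          have h0 := gen_gl hMU (resU U (v x))
          rw [gl_resU U hM, ← hpre] at h0
          exact h0
        have e1 : τ'.hom.app ⊤ (pForm p (G x)) = resU U (v x) := (hτ' _).trans (resU_combine U f s _).symm
        refine (hg (p ⁻¹ᵁ V x) le_rfl).1 ?_
        simp only [res_self']
        refine Eq.trans ?_ (resU_cancel U hO hc').symm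
        rw [resU_combine U f s c', ← hτ' c', ← h1, ← e1]
        refine Eq.trans ?_ (Scheme.Modules.Hom.app_smul τ'.hom _ _).symm
        rw [app_resT]
  have hVa : ∀ x, IsAffineOpen (V x) := fun x => Proj.isAffineOpen_basicOpen _ _ (G x).2 one_pos
  let O : (CohB1.ProjSpace r k).Opens := ⨆ x, V x
  have hO : p ⁻¹ᵁ O = ⊤ := eq_top_iff.2 fun x _ =>
    (Opens.mem_iSup.2 ⟨x, (hpre x).ge (hxc x.1 x.2)⟩ : p x ∈ O)
  haveI : IsClosedImmersion (p ∣_ O) := by
    refine IsZariskiLocalAtTarget.of_iSup_eq_top (fun x => O.ι ⁻¹ᵁ V x) ?_ fun x => ?_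
    · rw [← Scheme.Hom.preimage_iSup]
      exact eq_top_iff.2 fun z _ => z.2
    · refine (MorphismProperty.arrow_mk_iso_iff @IsClosedImmersion (morphismRestrictRestrict p O _)).2 ?_
      have he : O.ι ''ᵁ (O.ι ⁻¹ᵁ V x) = V x := by
        rw [Scheme.Hom.image_preimage_eq_opensRange_inf, Scheme.Opens.opensRange_ι]
        exact inf_eq_right.2 (le_iSup V x)
      rw [he]
      have hWa : IsAffineOpen (p ⁻¹ᵁ V x) := by
        rw [hpre]
        exact (hca x.1 x.2).preimage_of_isOpenImmersion U.ι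
          (by rw [Scheme.Opens.opensRange_ι]; exact hcU x.1 x.2)
      exact AmpleEmb.isClosedImmersion_morphismRestrict_of_surjective p rfl (hVa x) hWa (hsurj x)
  haveI : IsIso (p ⁻¹ᵁ O).ι := by
    rw [hO]
    exact U.toScheme.topIso.isIso_hom
  have h : p = inv (p ⁻¹ᵁ O).ι ≫ (p ∣_ O) ≫ O.ι := by
    rw [morphismRestrict_ι, IsIso.inv_hom_id_assoc]
  rw [h]
  infer_instance

end Groth.Agent.KerSecLib
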