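import Groth.Agent.AmpleEmb.SectionsGe
import Groth.Agent.ProjUPLib.Unique

/-!
# Sections of large powers vanishing on a closed subscheme, with generating ratios
-/

set_option autoImplicit false
set_option backward.isDefEq.respectTransparency false
set_option linter.style.haveILetI false

universe u

open CategoryTheory CategoryTheory.Limits AlgebraicGeometry TopologicalSpace Opposite
open Groth.Agent.PullbackMod Groth.Agent.DCohLib Groth.Agent.ParaFLib Groth.Agent.AmpleLib
open Groth.Agent.ProjUPLib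

noncomputable section

namespace Groth.Agent.KerSecLib

variable {X Z : Scheme.{u}}

/-- A high power of a section which vanishes pointwise on `Z` kills everything on `Z`. -/
theorem exists_vanish [CompactSpace X] (i : Z ⟶ X) [IsClosedImmersion i] {P : X.Modules}
    (hP : PicF.IsInvertible P) (σ : ProjUP.Γm P) (hσ : ∀ z : Z, i z ∉ gl σ) :
    ∃ N, 0 < N ∧ ∀ (A : X.Modules) (ξ : ProjUP.Γm A), ProjUP.pullSec i (tmod A (CohB1.tensorPow P N))
      (pairS A (CohB1.tensorPow P N) ξ (powLoc σ N)) = 0 := by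
  classical
  obtain ⟨t, W, e, hWe, hcov⟩ := exists_affine_gen_cover hP (O := (⊤ : X.Opens)) isCompact_univ
  have hall : ∀ x : {x // x ∈ t}, ∃ (a : Γ(X, W x.1)), a • e x.1 = resT σ (W x.1) := fun x => by
    obtain ⟨a, ha⟩ := ((hWe x.1 x.2).2.2 (W x.1) le_rfl).2 (resT σ (W x.1))
    simp only [res_self] at ha
    exact ⟨a, ha⟩
  choose a ha using hall
  have hnil : ∀ x, IsNilpotent ((i.appLE (W x.1) (i ⁻¹ᵁ W x.1) le_rfl).hom (a x)) := fun x => by
    refine (Scheme.isNilpotent_iff_basicOpen_eq_bot_of_isCompact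
      ((hWe x.1 x.2).1.preimage i).isCompact _).2 (eq_bot_iff.2 fun z hz => ?_)
    change z ∈ Z.basicOpen (i.appLE (W x.1) (i ⁻¹ᵁ W x.1) le_rfl (a x)) at hz
    rw [Scheme.basicOpen_appLE] at hz
    exact (hσ z ((gl_inf_eq σ (hWe x.1 x.2).2.2 (ha x)).ge hz.2).1).elim
  choose n hn using hnil
  let N := Finset.univ.sup n + 1
  refine ⟨N, Nat.succ_pos _, fun A ξ => ?_⟩
  let M := tmod A (CohB1.tensorPow P N)
  let F : TopCat.Sheaf Ab.{u} Z.carrier := ⟨((Scheme.Modules.pullback i).obj M).presheaf,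
    ((Scheme.Modules.pullback i).obj M).isSheaf⟩
  refine F.eq_of_locally_eq' (fun x : {x // x ∈ t} => i ⁻¹ᵁ W x.1) ⊤ (fun x => homOfLE le_top)
    (fun z _ => by
      obtain ⟨x, hx, hzx⟩ := Set.mem_iUnion₂.1 (hcov (Set.mem_univ (i z)))
      exact Opens.mem_iSup.2 ⟨⟨x, hx⟩, hzx⟩) _ _ fun x => ?_
  refine Eq.trans ?_ (map_zero _).symm
  show resT (ProjUP.pullSec i M _) (i ⁻¹ᵁ W x.1) = 0
  rw [resT_pullSec i (W := W x.1) le_rfl]
  have e1 : resT (L := M) (pairS A (CohB1.tensorPow P N) ξ (powLoc σ N)) (W x.1) =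
      (a x ^ N) • pairS A (CohB1.tensorPow P N) (resT ξ (W x.1)) (powLoc (e x.1) N) := by
    rw [resT, res_pairS, powLoc_res,
      show P.presheaf.map (homOfLE le_top).op σ = a x • e x.1 from (ha x).symm, powLoc_smul, pairS_smul_right]
  rw [e1, pullMap_smul]
  have h0 : (i.appLE (W x.1) (i ⁻¹ᵁ W x.1) le_rfl).hom (a x ^ N) = 0 := by
    rw [map_pow]
    exact pow_eq_zero_of_le ((Finset.le_sup (Finset.mem_univ x)).trans (Nat.le_succ _)) (hn x)
  erw [h0]
  exact zero_smul _ _

theorem app_pullSec_zero (i : Z ⟶ X) {M M' : X.Modules} (θ : M ⟶ M') (v : ProjUP.Γm M)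
    (h : ProjUP.pullSec i M v = 0) : ProjUP.pullSec i M' (θ.app ⊤ v) = 0 := by
  rw [pullSec_eq] at h ⊢
  rw [← pullMap_natural, h, map_zero]

theorem res_surj {U V : X.Opens} (h : V = U) :
    Function.Surjective (X.presheaf.map (homOfLE h.le).op).hom := AmpleEmb.res_surjective h

/-- The iso `(L^r ⊗ (L^D)^K) ⊗ (L^D)^N ≅ L^E`. -/
def powIso (L : X.Modules) (r D K N E : ℕ) (hE : r + D * K + D * N = E) :
    tmod (tmod (CohB1.tensorPow L r) (CohB1.tensorPow (CohB1.tensorPow L D) K))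
      (CohB1.tensorPow (CohB1.tensorPow L D) N) ≅ CohB1.tensorPow L E :=
  tIso (tIso (Iso.refl _) (powMul L D K) ≪≫ (powAdd L r (D * K)).symm) (powMul L D N) ≪≫
    (powAdd L (r + D * K) (D * N)).symm ≪≫ eqToIso (congrArg (CohB1.tensorPow L) hE)

/-- On an affine locus in the complement of `Z`, ratios of sections of a large power vanishing on `Z` generate. -/
theorem exists_family {S : Scheme.{u}} [IsAffine S] (f : X ⟶ S) [LocallyOfFiniteType f] [CompactSpace X]
    [QuasiSeparatedSpace X] (i : Z ⟶ X) [IsClosedImmersion i] {L : X.Modules} (hL : PicF.IsInvertible L)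
    {D : ℕ} (hD : 0 < D) (σ : ProjUP.Γm (CohB1.tensorPow L D)) (hW : IsAffineOpen (gl σ))
    (e : Γ(L, gl σ)) (he : Gen (gl σ) e) (hσ : ∀ z : Z, i z ∉ gl σ) :
    ∃ n₀, ∀ n, n₀ ≤ n → ∃ v : ProjUP.Γm (CohB1.tensorPow L n),
      ProjUP.pullSec i (CohB1.tensorPow L n) v = 0 ∧ gl v = gl σ ∧
      ∃ T : Set Γ(X, gl σ), Subring.closure (Set.range (f.appLE ⊤ (gl σ) le_top).hom ∪ T) = ⊤ ∧
        ∀ a ∈ T, ∃ w : ProjUP.Γm (CohB1.tensorPow L n), ProjUP.pullSec i (CohB1.tensorPow L n) w = 0 ∧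
          a • resT v (gl σ) = resT w (gl σ) := by
  classical
  let P := CohB1.tensorPow L D
  have hP : PicF.IsInvertible P := isInvertible_tensorPow hL D
  obtain ⟨T, hT⟩ := AmpleEmb.exists_generators f (isAffineOpen_top S) hW le_top
  obtain ⟨N, hN0, hN⟩ := exists_vanish i hP σ hσ
  haveI : ∀ r, Coh.IsQCoh (CohB1.tensorPow L r) := fun r =>
    Groth.Agent.InvExt.isQCoh_of_isInvertible (isInvertible_tensorPow hL r)
  let σ' : Coh.structureModule X ⟶ P := secHom P σ
  have hloc : CohB1.genLocus P σ' = gl σ := rfl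
  choose k₀ hk₀ using fun (p : Fin D × ↥(insert 1 T)) =>
    AmpleEmb.exists_extend_mod hP σ' (CohB1.tensorPow L p.1) (p.2.1 • powLoc e p.1)
  let K₀ := Finset.univ.sup k₀
  refine ⟨D * (K₀ + N + 1), fun E hE => ?_⟩
  have h1 : K₀ + N + 1 ≤ E / D := (Nat.le_div_iff_mul_le hD).2 (by rw [mul_comm]; exact hE)
  let K := E / D - N
  let r : Fin D := ⟨E % D, Nat.mod_lt _ hD⟩
  have hE' : r.1 + D * K + D * N = E := by
    have := Nat.mod_add_div E D
    have e2 : D * K + D * N = D * (E / D) := by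
      rw [← Nat.mul_add, Nat.sub_add_cancel (by omega)]
    show E % D + D * K + D * N = E
    omega
  choose ξ hξ using fun a : ↥(insert 1 T) => hk₀ (r, a) K
    ((Finset.le_sup (Finset.mem_univ _)).trans (by omega : K₀ ≤ K))
  let A := tmod (CohB1.tensorPow L r) (CohB1.tensorPow P K)
  let Q := tmod A (CohB1.tensorPow P N)
  have hQ : PicF.IsInvertible Q := isInvertible_tensor
    (isInvertible_tensor (isInvertible_tensorPow hL _) (isInvertible_tensorPow hP K)) (isInvertible_tensorPow hP N)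
  let θ : Q ≅ CohB1.tensorPow L E := powIso L r.1 D K N E hE'
  let u : ↥(insert 1 T) → ProjUP.Γm Q := fun a => pairS A (CohB1.tensorPow P N) (ξ a) (powLoc σ N)
  have hsσ : resT (sec σ') (gl σ) = resT σ (gl σ) := by rw [sec_secHom]
  have hgσ : Gen (gl σ) (resT σ (gl σ)) := gen_gl hP σ
  let g : Γ(Q, gl σ) := pairS A (CohB1.tensorPow P N)
    (pairS (CohB1.tensorPow L r) (CohB1.tensorPow P K) (powLoc e r) (powLoc (resT σ (gl σ)) K))
    (powLoc (resT σ (gl σ)) N)
  have hg : Gen (gl σ) g := gen_pairS (gen_pairS (gen_powLoc he _) (gen_powLoc hgσ K)) (gen_powLoc hgσ N)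
  have hu : ∀ a : ↥(insert 1 T), resT (u a) (gl σ) = a.1 • g := fun a => by
    show (tmod A (CohB1.tensorPow P N)).presheaf.map _ (pairS A (CohB1.tensorPow P N) (ξ a) (powLoc σ N)) = _
    rw [res_pairS, powLoc_res]
    have h2 := hξ a
    rw [sec_secHom] at h2
    change A.presheaf.map _ (ξ a) = _ at h2
    refine (congrArg (fun z => pairS A (CohB1.tensorPow P N) z (powLoc (resT σ (gl σ)) N)) h2).trans ?_
    dsimp only
    rw [pairS_smul_left]
    exact pairS_smul_left _ _ _
  let o : ↥(insert 1 T) := ⟨1, Finset.mem_insert_self _ _⟩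
  refine ⟨θ.hom.app ⊤ (u o), app_pullSec_zero i θ.hom _ (hN A (ξ o)), ?_, ↑T, hT, fun a ha => ?_⟩
  · rw [gl_iso θ]
    refine le_antisymm ?_ (le_gl ?_)
    · have e2 : secHom Q (u o) = tensorS (secHom A (ξ o)) (powS σ' N) := by
        unfold tensorS
        refine congrArg (secHom Q) ?_
        refine congr_arg₂ (pairS A (CohB1.tensorPow P N)) (sec_secHom (L := A) (ξ o)).symm ?_
        rw [sec_powS, sec_secHom]
      intro x hx
      obtain ⟨M, hM⟩ := Nat.exists_eq_succ_of_ne_zero hN0.ne'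
      have h3 : x ∈ CohB1.genLocus _ (powS σ' N) := by
        change x ∈ CohB1.genLocus _ (secHom Q (u o)) at hx
        rw [e2] at hx
        exact ((genLocus_tensorS (isInvertible_tensor (isInvertible_tensorPow hL _) (isInvertible_tensorPow hP K))
          (isInvertible_tensorPow hP N) _ _).le hx).2
      subst hM
      exact (genLocus_powS hP σ' M).le h3
    · rw [hu o, one_smul]
      exact hg
  · refine ⟨θ.hom.app ⊤ (u ⟨a, Finset.mem_insert_of_mem ha⟩), app_pullSec_zero i θ.hom _ (hN A _), ?_⟩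
    rw [← app_resT, ← app_resT, hu, hu, one_smul]
    exact (Scheme.Modules.Hom.app_smul θ.hom a g).symm

end Groth.Agent.KerSecLib
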